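import Mathlib

/-!
`k`-linear maps out of Kähler differentials from bilinear maps satisfying the Leibniz rule.
-/

set_option autoImplicit false
universe u v w

namespace Groth.Agent.OmegaLiftH28

open KaehlerDifferential

variable (k : Type u) (A : Type v) (Q : Type w) [CommRing k] [CommRing A] [Algebra k A]
  [AddCommGroup Q] [Module k Q]

/-- `Hom_k(A, Q)` with the `A`-action through the argument. -/
abbrev pullModule : Module A (A →ₗ[k] Q) where
  smul a f := LinearMap.comp f (LinearMap.mulRight k a)
  mul_smul a b f := LinearMap.ext fun x => congrArg (fun y => f y) (mul_assoc x a b).symm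
  one_smul f := LinearMap.ext fun x => congrArg (fun y => f y) (mul_one x)
  smul_zero a := rfl
  smul_add a f g := rfl
  add_smul a b f := LinearMap.ext fun x => (congrArg (fun y => f y) (mul_add x a b)).trans (map_add f _ _)
  zero_smul f := LinearMap.ext fun x => (congrArg (fun y => f y) (mul_zero x)).trans (map_zero f)

variable {k A Q}

theorem exists_lift (β : A →ₗ[k] A →ₗ[k] Q)
    (h : ∀ a b c, β a (b * c) = β (a * b) c + β (a * c) b) :
    ∃ Φ : Ω[A⁄k] →ₗ[k] Q, ∀ a b, Φ (a • D k A b) = β a b := by
  letI := pullModule k A Q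
  have hsmul : ∀ (a : A) (f : A →ₗ[k] Q) (x : A), (a • f) x = f (x * a) := fun a f x => rfl
  haveI : IsScalarTower k A (A →ₗ[k] Q) := ⟨fun c a f => LinearMap.ext fun x => by
    rw [hsmul, LinearMap.smul_apply, hsmul, mul_smul_comm, map_smul]⟩
  let d : Derivation k A (A →ₗ[k] Q) := Derivation.mk' β.flip fun b c => LinearMap.ext fun a => by
    rw [LinearMap.add_apply, hsmul, hsmul]
    exact h a b c
  let ev : (A →ₗ[k] Q) →ₗ[k] Q := LinearMap.applyₗ (1 : A)
  refine ⟨ev.comp (d.liftKaehlerDifferential.restrictScalars k), fun a b => ?_⟩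
  rw [LinearMap.comp_apply, LinearMap.restrictScalars_apply, map_smul,
    Derivation.liftKaehlerDifferential_comp_D]
  show (a • d b) 1 = β a b
  rw [hsmul, one_mul]
  rfl

end Groth.Agent.OmegaLiftH28
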